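import Mathlib.LinearAlgebra.Matrix.NonsingularInverse
import Mathlib.LinearAlgebra.Matrix.Determinant.Basic
import Mathlib.Algebra.BigOperators.Fin
import Mathlib.Data.List.OfFn
import Mathlib.Data.List.FinRange
import Mathlib.Tactic.Ring
import Mathlib.Tactic.LinearCombination

/-!
# A contraction complex attached to a matrix, exact where the matrix has a right inverse
-/

set_option autoImplicit false
set_option maxHeartbeats 400000

open Finset

namespace GrothLib.LinEN5

variable {R : Type*} [CommRing R] {n : ℕ}

/-- Contraction of a function on words by a covector. -/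
def con (r : Fin n → R) : List (Fin n) → (List (Fin n) → R) → R
  | [], f => ∑ v, r v * f [v]
  | a :: J, f => (∑ v, r v * f (v :: a :: J)) - con r J (fun K => f (a :: K))

/-- Contraction, as a linear map. -/
def conL (r : Fin n → R) : (List (Fin n) → R) →ₗ[R] (List (Fin n) → R) where
  toFun f J := con r J f
  map_add' f g := by
    funext J
    induction J generalizing f g with
    | nil => simp [con, mul_add, Finset.sum_add_distrib]
    | cons a J ih =>
      show con r (a :: J) (f + g) = con r (a :: J) f + con r (a :: J) g
      simp only [con, Pi.add_apply, mul_add, Finset.sum_add_distrib]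
      rw [show (fun K => f (a :: K) + g (a :: K)) = (fun K => f (a :: K)) + fun K => g (a :: K) from rfl, ih,
        Pi.add_apply]
      ring
  map_smul' c f := by
    funext J
    induction J generalizing f with
    | nil => simp [con, Finset.mul_sum, mul_left_comm]
    | cons a J ih =>
      show con r (a :: J) (c • f) = c * con r (a :: J) f
      simp only [con, Pi.smul_apply, smul_eq_mul]
      rw [show (fun K => c * f (a :: K)) = c • (fun K => f (a :: K)) from rfl, ih, Pi.smul_apply, smul_eq_mul,
        mul_sub, Finset.mul_sum]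
      simp only [RingHom.id_apply, smul_eq_mul, mul_left_comm]

theorem conL_nil (r : Fin n → R) (f : List (Fin n) → R) : conL r f [] = ∑ v, r v * f [v] := rfl

theorem conL_cons (r : Fin n → R) (f : List (Fin n) → R) (a : Fin n) (J : List (Fin n)) :
    conL r f (a :: J) = (∑ v, r v * f (v :: a :: J)) - conL r (fun K => f (a :: K)) J := rfl

/-- Contraction only sees words one letter longer. -/
theorem conL_congr (r : Fin n → R) : ∀ (J : List (Fin n)) (f g : List (Fin n) → R),
    (∀ K : List (Fin n), K.length = J.length + 1 → f K = g K) → conL r f J = conL r g J := by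
  intro J
  induction J with
  | nil =>
    intro f g h
    rw [conL_nil, conL_nil]
    exact Finset.sum_congr rfl fun v _ => by rw [h [v] rfl]
  | cons a J ih =>
    intro f g h
    rw [conL_cons, conL_cons, ih _ (fun K => g (a :: K)) fun K hK => h _ (by simp [hK])]
    exact congrArg (· - _) (Finset.sum_congr rfl fun v _ => by rw [h _ (by simp)])

theorem conL_comp_cons (r s : Fin n → R) (f : List (Fin n) → R) (a : Fin n) (J : List (Fin n)) :
    conL r (conL s f) (a :: J) =
      (∑ v, ∑ w, r v * s w * f (w :: v :: a :: J)) - (∑ v, ∑ w, r v * s w * f (v :: w :: a :: J))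
        + (∑ v, r v * conL s (fun K => f (v :: a :: K)) J) - (∑ w, s w * conL r (fun K => f (w :: a :: K)) J)
        + conL r (conL s (fun K => f (a :: K))) J := by
  have h1 : (fun K => conL s f (a :: K)) =
      (∑ w, s w • (fun K => f (w :: a :: K))) - conL s (fun K => f (a :: K)) := by
    funext K
    rw [conL_cons, Pi.sub_apply, Finset.sum_apply]
    rfl
  rw [conL_cons, h1, map_sub, map_sum, Pi.sub_apply, Finset.sum_apply]
  simp only [map_smul, Pi.smul_apply, smul_eq_mul, conL_cons, mul_sub, Finset.mul_sum,
    Finset.sum_sub_distrib, mul_assoc]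
  ring

theorem conL_conL_self (r : Fin n → R) (f : List (Fin n) → R) : conL r (conL r f) = 0 := by
  funext J
  rw [Pi.zero_apply]
  induction J generalizing f with
  | nil =>
    rw [conL_nil]
    simp only [conL_cons, conL_nil, mul_sub, Finset.mul_sum, Finset.sum_sub_distrib]
    rw [sub_eq_zero, Finset.sum_comm]
    exact Finset.sum_congr rfl fun v _ => Finset.sum_congr rfl fun w _ => by ring
  | cons a J ih =>
    rw [conL_comp_cons, ih, Finset.sum_comm]
    rw [show (∑ v, ∑ w, r w * r v * f (v :: w :: a :: J)) = ∑ v, ∑ w, r v * r w * f (v :: w :: a :: J) from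
      Finset.sum_congr rfl fun v _ => Finset.sum_congr rfl fun w _ => by ring]
    ring

theorem conL_anticomm (r s : Fin n → R) (f : List (Fin n) → R) :
    conL r (conL s f) + conL s (conL r f) = 0 := by
  funext J
  rw [Pi.add_apply, Pi.zero_apply]
  induction J generalizing f with
  | nil =>
    simp only [conL_nil, conL_cons, mul_sub, Finset.mul_sum, Finset.sum_sub_distrib]
    rw [Finset.sum_comm (f := fun v w => s v * (r w * f [w, v])),
      Finset.sum_comm (f := fun v w => s v * (r w * f [v, w]))]
    have e1 : ∀ g : Fin n → Fin n → R, (∑ v, ∑ w, s w * (r v * g v w)) = ∑ v, ∑ w, r v * (s w * g v w) :=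
      fun g => Finset.sum_congr rfl fun v _ => Finset.sum_congr rfl fun w _ => by ring
    rw [e1 (fun v w => f [v, w]), e1 (fun v w => f [w, v])]
    ring
  | cons a J ih =>
    have h := ih (fun K => f (a :: K))
    rw [conL_comp_cons, conL_comp_cons]
    rw [Finset.sum_comm (f := fun v w => s v * r w * f (w :: v :: a :: J)),
      Finset.sum_comm (f := fun v w => s v * r w * f (v :: w :: a :: J))]
    have e1 : ∀ g : Fin n → Fin n → R, (∑ v, ∑ w, s w * r v * g v w) = ∑ v, ∑ w, r v * s w * g v w :=
      fun g => Finset.sum_congr rfl fun v _ => Finset.sum_congr rfl fun w _ => by ring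
    rw [e1 (fun v w => f (v :: w :: a :: J)), e1 (fun v w => f (w :: v :: a :: J))]
    linear_combination h

/-- Prepending a vector. -/
def pre (s : Fin n → R) : (List (Fin n) → R) →ₗ[R] (List (Fin n) → R) where
  toFun f J := match J with
    | [] => 0
    | a :: J => s a * f J
  map_add' f g := by
    funext J
    cases J with
    | nil => simp
    | cons a J => simp [mul_add]
  map_smul' c f := by
    funext J
    cases J with
    | nil => simp
    | cons a J => simp [mul_left_comm]

theorem conL_pre (r s : Fin n → R) (f : List (Fin n) → R) :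
    conL r (pre s f) = (∑ v, r v * s v) • f - pre s (conL r f) := by
  funext J
  cases J with
  | nil =>
    rw [conL_nil, Pi.sub_apply, Pi.smul_apply, smul_eq_mul, Finset.sum_mul]
    simp [pre, mul_assoc]
  | cons a J =>
    rw [conL_cons, Pi.sub_apply, Pi.smul_apply, smul_eq_mul, Finset.sum_mul]
    rw [show (fun K => pre s f (a :: K)) = s a • f from rfl, map_smul, Pi.smul_apply, smul_eq_mul]
    simp [pre, mul_assoc]

/-- Iterated contraction. -/
def comp {m : ℕ} (r : Fin m → Fin n → R) : List (Fin m) → (List (Fin n) → R) →ₗ[R] (List (Fin n) → R)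
  | [] => LinearMap.id
  | p :: l => comp r l ∘ₗ conL (r p)

theorem comp_cons_apply {m : ℕ} (r : Fin m → Fin n → R) (p : Fin m) (l : List (Fin m)) (f : List (Fin n) → R) :
    comp r (p :: l) f = comp r l (conL (r p) f) := rfl

theorem comp_congr {m : ℕ} (r : Fin m → Fin n → R) : ∀ (l : List (Fin m)) (J : List (Fin n))
    (f g : List (Fin n) → R), (∀ K : List (Fin n), K.length = J.length + l.length → f K = g K) →
      comp r l f J = comp r l g J := by
  intro l
  induction l with
  | nil => intro J f g h; exact h J (by simp)
  | cons p l ih =>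
    intro J f g h
    exact ih J _ _ fun K hK => conL_congr _ K f g fun L hL => h L (by simp; omega)

theorem comp_conL_eq_zero {m : ℕ} (r : Fin m → Fin n → R) {p : Fin m} : ∀ (l : List (Fin m)), p ∈ l →
    ∀ g, comp r l (conL (r p) g) = 0 := by
  intro l
  induction l with
  | nil => intro h; simp at h
  | cons q l ih =>
    intro h g
    rw [comp_cons_apply]
    rcases List.mem_cons.1 h with rfl | h
    · rw [conL_conL_self, map_zero]
    · rw [show conL (r q) (conL (r p) g) = -conL (r p) (conL (r q) g) from
        eq_neg_of_add_eq_zero_left (conL_anticomm _ _ _), map_neg, ih h, neg_zero]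

variable {m : ℕ}

/-- Multi-degree-graded functions on words. -/
abbrev Cmp (R : Type*) (m n : ℕ) := (Fin m → ℕ) → List (Fin n) → R

/-- The unit multi-degree. -/
def e (p : Fin m) : Fin m → ℕ := Pi.single p 1

/-- The differential. -/
def Dl (r : Fin m → Fin n → R) : Cmp R m n →ₗ[R] Cmp R m n where
  toFun f α := ∑ p, conL (r p) (f (α + e p))
  map_add' f g := by funext α; simp [Finset.sum_add_distrib]
  map_smul' c f := by funext α; simp [Finset.smul_sum]

theorem Dl_apply (r : Fin m → Fin n → R) (f : Cmp R m n) (α : Fin m → ℕ) :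
    Dl r f α = ∑ p, conL (r p) (f (α + e p)) := rfl

theorem Dl_Dl (r : Fin m → Fin n → R) (f : Cmp R m n) : Dl r (Dl r f) = 0 := by
  funext α
  rw [Dl_apply, Pi.zero_apply]
  simp only [Dl_apply, map_sum]
  rw [← Finset.sum_product']
  refine Finset.sum_involution (fun x _ => (x.2, x.1)) (fun x _ => ?_) (fun x _ hx h => ?_)
    (fun x _ => Finset.mem_univ _) (fun x _ => rfl)
  · rw [add_right_comm α (e x.2) (e x.1)]
    exact conL_anticomm _ _ _
  · refine hx ?_
    rw [show x.2 = x.1 from congrArg Prod.fst h]
    exact conL_conL_self _ _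

/-- The homotopy. -/
def Hl (s : Fin m → Fin n → R) (p : Fin m) (f : Cmp R m n) : Cmp R m n :=
  fun α => if α p = 0 then 0 else pre (s p) (f (α - e p))

variable {r s : Fin m → Fin n → R} (hrs : ∀ p q, ∑ v, r p v * s q v = if p = q then 1 else 0)

include hrs in
theorem step_of_pos {f : Cmp R m n} (hf : Dl r f = 0) (p : Fin m) (α : Fin m → ℕ) (hα : α p ≠ 0) :
    Dl r (Hl s p f) α = f α := by
  have he : ∀ q : Fin m, (α + e q) p ≠ 0 := fun q => by simp only [Pi.add_apply]; omega
  have hsub : ∀ q, α + e q - e p = α - e p + e q := fun q => by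
    funext j
    simp only [Pi.sub_apply, Pi.add_apply, e, Pi.single_apply]
    by_cases h : j = p
    · subst h; simp; omega
    · simp [h]
  have h0 := congrFun hf (α - e p)
  rw [Dl_apply, Pi.zero_apply] at h0
  rw [Dl_apply]
  simp only [Hl, if_neg (he _), conL_pre, hsub, hrs]
  rw [Finset.sum_sub_distrib, ← map_sum, h0, map_zero, sub_zero, Finset.sum_eq_single p]
  · rw [if_pos rfl, one_smul]
    congr 1
    funext j
    simp only [Pi.sub_apply, Pi.add_apply, e, Pi.single_apply]
    by_cases h : j = p
    · subst h; simp; omega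
    · simp [h]
  · intro q _ hq
    rw [if_neg hq, zero_smul]
  · simp

include hrs in
theorem step_of_zero (f : Cmp R m n) (p : Fin m) (α : Fin m → ℕ) (hα : α p = 0) :
    Dl r (Hl s p f) α = f α - pre (s p) (conL (r p) (f α)) := by
  rw [Dl_apply, Finset.sum_eq_single p]
  · have h1 : (α + e p) p ≠ 0 := by simp [e]
    have h2 : α + e p - e p = α := by funext j; simp
    simp only [Hl, if_neg h1, h2, conL_pre, hrs, if_true, one_smul]
  · intro q _ hq
    have : (α + e q) p = 0 := by simp [e, hα, Ne.symm hq]
    simp only [Hl, if_pos this, map_zero]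
  · simp

/-- Reduction along a list of indices. -/
def red (r s : Fin m → Fin n → R) : List (Fin m) → Cmp R m n → Cmp R m n
  | [], f => f
  | p :: l, f => red r s l (f - Dl r (Hl s p f))

/-- The effect of the reduction in degree zero. -/
def redZero (r s : Fin m → Fin n → R) : List (Fin m) → (List (Fin n) → R) → List (Fin n) → R
  | [], g => g
  | p :: l, g => redZero r s l (pre (s p) (conL (r p) g))

theorem exists_red (r s : Fin m → Fin n → R) : ∀ (l : List (Fin m)) (f : Cmp R m n),
    ∃ g, f = red r s l f + Dl r g := by
  intro l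
  induction l with
  | nil => exact fun f => ⟨0, by simp [red]⟩
  | cons p l ih =>
    intro f
    obtain ⟨g, hg⟩ := ih (f - Dl r (Hl s p f))
    exact ⟨g + Hl s p f, by rw [map_add, ← add_assoc, red, ← hg, sub_add_cancel]⟩

include hrs in
theorem red_apply : ∀ (l : List (Fin m)) (f : Cmp R m n), Dl r f = 0 → ∀ α,
    ((∀ p ∈ l, α p = 0) → red r s l f α = redZero r s l (f α)) ∧
      ((∃ p ∈ l, α p ≠ 0) → red r s l f α = 0) := by
  intro l
  induction l with
  | nil => exact fun f _ α => ⟨fun _ => rfl, fun ⟨p, hp, _⟩ => absurd hp List.not_mem_nil⟩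
  | cons p l ih =>
    intro f hf α
    have hf' : Dl r (f - Dl r (Hl s p f)) = 0 := by rw [map_sub, hf, Dl_Dl, sub_zero]
    obtain ⟨h1, h2⟩ := ih _ hf' α
    refine ⟨fun hα => ?_, fun hα => ?_⟩
    · rw [red, h1 fun q hq => hα q (List.mem_cons_of_mem _ hq), Pi.sub_apply,
        step_of_zero hrs f p α (hα p List.mem_cons_self), sub_sub_cancel, redZero]
    · by_cases hl : ∃ q ∈ l, α q ≠ 0
      · exact h2 hl
      · push_neg at hl
        obtain ⟨q, hq, hqα⟩ := hα
        obtain rfl : q = p := (List.mem_cons.1 hq).resolve_right fun h => hqα (hl q h)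
        rw [red, h1 hl, Pi.sub_apply, step_of_pos hrs hf q α hqα, sub_self]
        have : ∀ l, redZero r s l (0 : List (Fin n) → R) = 0 := by
          intro l
          induction l with
          | nil => rfl
          | cons p l ih => rw [redZero, map_zero, map_zero, ih]
        exact this l

include hrs in
theorem comp_pre_eq_zero : ∀ (l : List (Fin m)) (q : Fin m), q ∉ l → ∀ g, comp r l g = 0 →
    comp r l (pre (s q) g) = 0 := by
  intro l
  induction l with
  | nil => intro q _ g hg; exact (congrArg (pre (s q)) hg).trans (map_zero _)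
  | cons p l ih =>
    intro q hq g hg
    rw [comp_cons_apply, conL_pre, hrs, if_neg (fun h : p = q => hq (h ▸ List.mem_cons_self)), zero_smul,
      zero_sub, map_neg, ih q (fun h => hq (List.mem_cons_of_mem _ h)) _ hg, neg_zero]

include hrs in
theorem redZero_eq_zero : ∀ (l : List (Fin m)), l.Nodup → ∀ g, comp r l g = 0 → redZero r s l g = 0 := by
  intro l
  induction l with
  | nil => exact fun _ g hg => hg
  | cons p l ih =>
    intro hl g hg
    rw [List.nodup_cons] at hl
    exact ih hl.2 _ (comp_pre_eq_zero hrs l p hl.1 _ hg)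

include hrs in
/-- A cycle whose degree-zero part is killed by the augmentation is a boundary. -/
theorem exists_preimage {f : Cmp R m n} (hf : Dl r f = 0) (h0 : comp r (List.finRange m) (f 0) = 0) :
    ∃ g, Dl r g = f := by
  obtain ⟨g, hg⟩ := exists_red r s (List.finRange m) f
  refine ⟨g, ?_⟩
  have hz : red r s (List.finRange m) f = 0 := by
    funext α
    by_cases hα : α = 0
    · subst hα
      rw [(red_apply hrs _ f hf 0).1 fun p _ => rfl, redZero_eq_zero hrs _ (List.nodup_finRange m) _ h0]
      rfl
    · obtain ⟨p, hp⟩ := Function.ne_iff.1 hα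
      exact (red_apply hrs _ f hf α).2 ⟨p, List.mem_finRange p, hp⟩
  rw [hz, zero_add] at hg
  exact hg.symm

theorem comp_Dl_eq_zero (r : Fin m → Fin n → R) (f : Cmp R m n) :
    comp r (List.finRange m) (Dl r f 0) = 0 := by
  rw [Dl_apply, map_sum]
  exact Finset.sum_eq_zero fun p _ => comp_conL_eq_zero r _ (List.mem_finRange p) _

/-- The delta function of a word. -/
def delta (J : List (Fin n)) : List (Fin n) → R := Pi.single J 1

theorem conL_delta (r : Fin n → R) : ∀ {N : ℕ} (J : Fin (N + 1) → Fin n) (K : List (Fin n)),
    conL r (delta (List.ofFn J)) K =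
      ∑ l : Fin (N + 1), (-1) ^ (l : ℕ) * r (J l) * (if List.ofFn (J ∘ l.succAbove) = K then 1 else 0) := by
  intro N
  induction N with
  | zero =>
    intro J K
    rw [Fin.sum_univ_one]
    cases K with
    | nil =>
      rw [conL_nil, Finset.sum_eq_single (J 0)]
      · simp [delta]
      · intro v _ hv; simp [delta, hv]
      · simp
    | cons b K =>
      have hz : (fun L => delta (R := R) (List.ofFn J) (b :: L)) = fun L => if List.ofFn J = b :: L then 1 else 0 := by
        funext L; simp [delta, Pi.single_apply, eq_comm]
      rw [conL_cons, hz, conL_congr r K _ 0 fun L hL => by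
        simp only [Pi.zero_apply]
        rw [if_neg fun h => by have := congrArg List.length h; rw [List.length_ofFn, List.length_cons] at this; omega], map_zero]
      simp [delta]
  | succ N ih =>
    intro J K
    rw [Fin.sum_univ_succ]
    have hJ : List.ofFn J = J 0 :: List.ofFn (J ∘ Fin.succ) := by rw [List.ofFn_succ]; rfl
    have hsucc : ∀ l : Fin (N + 1), List.ofFn (J ∘ (Fin.succ l).succAbove) =
        J 0 :: List.ofFn ((J ∘ Fin.succ) ∘ l.succAbove) := fun l => by
      rw [List.ofFn_succ]
      simp [Function.comp_def, Fin.succ_succAbove_succ]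
    have h0 : (J ∘ (0 : Fin (N + 2)).succAbove) = J ∘ Fin.succ := by funext l; simp
    simp only [hsucc, h0, Fin.val_zero, pow_zero, one_mul, Fin.val_succ, pow_succ]
    cases K with
    | nil =>
      rw [conL_nil, Finset.sum_eq_zero, Finset.sum_eq_zero] <;> simp [delta, hJ]
    | cons b K =>
      rw [conL_cons, Finset.sum_eq_single (J 0), hJ]
      rotate_left
      · intro v _ hv; simp [delta, hJ, hv]
      · simp
      have hcons : ∀ L : List (Fin n), delta (R := R) (J 0 :: List.ofFn (J ∘ Fin.succ)) (b :: L) =
          (if J 0 = b then (1 : R) else 0) • delta (List.ofFn (J ∘ Fin.succ)) L := fun L => by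
        simp only [delta, Pi.single_apply, List.cons.injEq, smul_eq_mul]
        by_cases h1 : J 0 = b
        · subst h1; simp
        · simp [h1, Ne.symm h1]
      rw [show (fun L => delta (R := R) (J 0 :: List.ofFn (J ∘ Fin.succ)) (b :: L)) =
        (if J 0 = b then (1 : R) else 0) • delta (List.ofFn (J ∘ Fin.succ)) from funext hcons, map_smul,
        Pi.smul_apply, ih]
      simp only [delta, Pi.single_apply, List.cons.injEq, smul_eq_mul, Finset.mul_sum]
      rw [sub_eq_add_neg, ← Finset.sum_neg_distrib]
      congr 1
      · simp [eq_comm]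
      · exact Finset.sum_congr rfl fun l _ => by split_ifs <;> simp_all

theorem comp_delta (r : Fin m → Fin n → R) : ∀ {k : ℕ} (p : Fin k → Fin m) (J : Fin k → Fin n),
    comp r (List.ofFn p) (delta (List.ofFn J)) [] = (Matrix.of fun a b => r (p b) (J a)).det := by
  intro k
  induction k with
  | zero => intro p J; simp [comp, delta]
  | succ k ih =>
    intro p J
    rw [List.ofFn_succ, comp_cons_apply]
    have h : conL (r (p 0)) (delta (List.ofFn J)) =
        ∑ l : Fin (k + 1), ((-1) ^ (l : ℕ) * r (p 0) (J l)) • delta (R := R) (List.ofFn (J ∘ l.succAbove)) := by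
      funext K
      rw [conL_delta, Finset.sum_apply]
      exact Finset.sum_congr rfl fun l _ => by simp [delta, Pi.single_apply, eq_comm]
    rw [h, map_sum, Finset.sum_apply, Matrix.det_succ_column_zero]
    refine Finset.sum_congr rfl fun l _ => ?_
    rw [map_smul, Pi.smul_apply, smul_eq_mul]
    rw [ih (fun i => p i.succ) (J ∘ l.succAbove)]
    rfl

end GrothLib.LinEN5
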