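import Groth.Agent.Lib.LinEN5.Stalk
import Groth.Agent.Lib.CMReg.Complex
import Groth.Agent.Lib.CMReg.StructureMain
import Groth.Agent.Lib.CMReg.Linear
import Groth.Agent.Lib.FittSheaf.Basic
import Groth.Agent.Lib.FittSheaf.Generators

/-!
# Regularity of the ideal of maximal minors of a matrix of linear forms
-/

set_option autoImplicit false
set_option backward.isDefEq.respectTransparency false
set_option maxHeartbeats 600000
set_option linter.style.haveILetI false

universe u

open CategoryTheory CategoryTheory.Limits AlgebraicGeometry TopologicalSpace Opposite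

noncomputable section

namespace GrothLib.LinEN5

open QCoh (stalkLin)
open OmegaBC (sval)

section general

variable {X : Scheme.{u}} {L : X.Modules} {m n : ℕ}

/-- The components of a map from a sum of copies of `L` to a free module. -/
def comps (φ : (∐ fun _ : Fin n => L) ⟶ FlatMod.freeMod X m) (p : Fin m) (v : Fin n) :
    L ⟶ Coh.structureModule X :=
  Sigma.ι (fun _ : Fin n => L) v ≫ φ ≫ FinCov.proj X m p

/-- A basis vector in a stalk of a free module. -/
def ev (x : X) (p : Fin m) : (FlatMod.freeMod X m).presheaf.stalk x :=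
  stalkLin (Sigma.ι (fun _ : Fin m => Coh.structureModule X) p) x (HomSh.unitStalk x 1)

theorem sum_ev (x : X) (w : (FlatMod.freeMod X m).presheaf.stalk x) :
    w = ∑ p, scal x (stalkLin (FinCov.proj X m p) x w) • ev x p := by
  calc w = stalkLin (∑ p, FinCov.proj X m p ≫ Sigma.ι (fun _ : Fin m => Coh.structureModule X) p) x w := by
        rw [FinCov.sum_proj_ι]; exact (stalkLin_id _ _ _).symm
    _ = _ := by
        rw [FormalFun.stalkLin_sum]
        refine Finset.sum_congr rfl fun p _ => ?_
        rw [QCoh.stalkLin_comp, ev, ← map_smul, ← map_smul, smul_eq_mul, mul_one]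
        exact congrArg _ ((HomSh.unitStalk x).apply_symm_apply _).symm

theorem scal_proj_ev (x : X) (p q : Fin m) :
    scal x (stalkLin (FinCov.proj X m q) x (ev x p)) = if p = q then 1 else 0 := by
  rw [ev, ← QCoh.stalkLin_comp, FinCov.ι_proj]
  split_ifs with h
  · rw [stalkLin_id]
    exact (HomSh.unitStalk x).symm_apply_apply 1
  · rw [FormalFun.stalkLin_zero, map_zero]

variable (φ : (∐ fun _ : Fin n => L) ⟶ FlatMod.freeMod X m) {x : X} {u : L.presheaf.stalk x}
  (hu : Ref1.Gen L x u)

/-- The generators of a stalk of the cokernel. -/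
def gens (x : X) (p : Fin m) : (cokernel φ).presheaf.stalk x := stalkLin (cokernel.π φ) x (ev x p)

theorem span_gens (x : X) : Submodule.span (X.presheaf.stalk x) (Set.range (gens φ x)) = ⊤ := by
  refine Submodule.eq_top_iff'.2 fun e => ?_
  obtain ⟨w, rfl⟩ := QCoh.stalkLin_surjective (cokernel.π φ) x e
  rw [sum_ev x w, map_sum]
  exact Submodule.sum_mem _ fun p _ => by
    rw [map_smul]; exact Submodule.smul_mem _ _ (Submodule.subset_span ⟨p, rfl⟩)

theorem linComb_gens (c : Fin m → X.presheaf.stalk x) :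
    ∑ p, c p • gens φ x p = stalkLin (cokernel.π φ) x (∑ p, c p • ev x p) := by
  rw [map_sum]
  exact Finset.sum_congr rfl fun p _ => (map_smul _ _ _).symm

include hu in
theorem exists_sum_source (w : (∐ fun _ : Fin n => L).presheaf.stalk x) :
    ∃ a : Fin n → X.presheaf.stalk x,
      w = ∑ v, a v • stalkLin (Sigma.ι (fun _ : Fin n => L) v) x u := by
  let e := biproduct.isoCoproduct (fun _ : Fin n => L)
  have hι : ∀ v, biproduct.ι (fun _ : Fin n => L) v ≫ e.hom = Sigma.ι (fun _ : Fin n => L) v := fun v => by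
    simp [e, biproduct.isoCoproduct_hom]
  have h : (∑ v, (e.inv ≫ biproduct.π _ v) ≫ Sigma.ι (fun _ : Fin n => L) v) = 𝟙 _ := by
    simp only [← hι, Category.assoc]
    rw [← Preadditive.comp_sum]
    simp only [← Category.assoc]
    rw [← Preadditive.sum_comp, biproduct.total, Category.id_comp, e.inv_hom_id]
  choose a ha using fun v => hu.2 (stalkLin (e.inv ≫ biproduct.π (fun _ : Fin n => L) v) x w)
  refine ⟨a, ?_⟩
  conv_lhs => rw [← stalkLin_id _ x w, ← h]
  rw [FormalFun.stalkLin_sum]
  exact Finset.sum_congr rfl fun v _ => by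
    rw [QCoh.stalkLin_comp, ← ha, map_smul]

include hu in
theorem rel_gens : Fitting.rel (R := X.presheaf.stalk x) (gens φ x) =
    Submodule.span (X.presheaf.stalk x) (Set.range fun v => fun p => mat (comps φ) u p v) := by
  have hcol : ∀ v, stalkLin φ x (stalkLin (Sigma.ι (fun _ : Fin n => L) v) x u) =
      ∑ p, mat (comps φ) u p v • ev x p := fun v => by
    conv_lhs => rw [sum_ev x (stalkLin φ x _)]
    refine Finset.sum_congr rfl fun p _ => ?_
    rw [mat, val, comps, QCoh.stalkLin_comp, QCoh.stalkLin_comp]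
  refine le_antisymm (fun c hc => ?_) (Submodule.span_le.2 ?_)
  · rw [Fitting.mem_rel, linComb_gens] at hc
    have hex := (ShortComplex.ShortExact.moduleCat_exact_iff_function_exact _).1
      ((OX.exact_iff _).1 (ShortComplex.exact_cokernel φ) x)
    obtain ⟨w, hw⟩ := (hex _).1 hc
    obtain ⟨a, rfl⟩ := exists_sum_source hu w
    change stalkLin φ x _ = _ at hw
    rw [map_sum] at hw
    have hc' : c = ∑ v, a v • fun p => mat (comps φ) u p v := by
      funext q
      have := congrArg (fun w => scal x (stalkLin (FinCov.proj X m q) x w)) hw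
      simp only [map_sum, map_smul, hcol, scal_proj_ev, smul_eq_mul, mul_ite, mul_one, mul_zero,
        Finset.sum_ite_eq', Finset.mem_univ, if_true] at this
      rw [← this, Finset.sum_apply]
      rfl
    rw [hc']
    exact Submodule.sum_mem _ fun v _ => Submodule.smul_mem _ _ (Submodule.subset_span ⟨v, rfl⟩)
  · rintro _ ⟨v, rfl⟩
    rw [SetLike.mem_coe, Fitting.mem_rel, linComb_gens, ← hcol, ← QCoh.stalkLin_comp, cokernel.condition]
    exact FormalFun.stalkLin_zero _ _

include hu in
theorem ideal_eq_span_det : Fitt.ideal (X.presheaf.stalk x) ((cokernel φ).presheaf.stalk x) 0 =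
    Ideal.span (Set.range fun J : Fin m → Fin n =>
      (Matrix.of fun a b => mat (comps φ) u b (J a)).det) := by
  rw [Fitting.ideal_eq_minors (gens φ x) (span_gens φ x), Nat.sub_zero, rel_gens φ hu]
  refine le_antisymm (Fitting.minors_span_le _ _ _ fun z e hz => ?_) (Ideal.span_le.2 ?_)
  · choose J hJ using hz
    by_cases he : Function.Injective e
    · let σ : Equiv.Perm (Fin m) := Equiv.ofBijective e ⟨he, Finite.injective_iff_surjective.1 he⟩
      have h : (Matrix.of fun a b => z b (e a)) =
          (Matrix.of fun a b => mat (comps φ) u b (J a)).transpose.submatrix σ id := by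
        ext a b
        simp [← hJ b, σ]
      rw [h, Matrix.det_permute, Matrix.det_transpose]
      exact Ideal.mul_mem_left _ _ (Ideal.subset_span ⟨J, rfl⟩)
    · obtain ⟨i, j, hij, hne⟩ := Function.not_injective_iff.1 he
      rw [Matrix.det_zero_of_row_eq hne (by ext b; simp [hij])]
      exact zero_mem _
  · rintro _ ⟨J, rfl⟩
    show (Matrix.of fun a b => mat (comps φ) u b (J a)).det ∈ _
    rw [← Matrix.det_transpose]
    exact Fitting.det_mem_minors (fun b p => mat (comps φ) u p (J b)) id
      fun b => Submodule.subset_span ⟨J b, rfl⟩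

include hu in
theorem range_scal_aug : Set.range (fun z => scal x (stalkLin (aug (comps φ)) x z)) =
    (Fitt.ideal (X.presheaf.stalk x) ((cokernel φ).presheaf.stalk x) 0 : Set (X.presheaf.stalk x)) := by
  rw [ideal_eq_span_det φ hu]
  have hterm : ∀ z, scal x (stalkLin (aug (comps φ)) x z) =
      ∑ i : Fin (num m n 0), coord hu 0 z i *
        (Matrix.of fun a b => mat (comps φ) u b ((lab 0 i).2 a)).det := fun z => by
    rw [scal_aug hu (comps φ), cmp, Finset.sum_apply, map_sum, Finset.sum_apply]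
    refine Finset.sum_congr rfl fun i _ => ?_
    have hdeg : deg 0 i = (0 : Fin m → ℕ) := by
      funext p
      have := (lab 0 i).1.1 p
      simp [deg]
    rw [Pi.smul_apply, map_smul, Pi.smul_apply, smul_eq_mul, dl, hdeg, Pi.single_eq_same, ← List.ofFn_id]
    erw [comp_delta (mat (comps φ) u) id (lab 0 i).2]
    rfl
  refine Set.Subset.antisymm ?_ fun r hr => ?_
  · rintro _ ⟨z, rfl⟩
    rw [SetLike.mem_coe]
    show scal x (stalkLin (aug (comps φ)) x z) ∈ _
    rw [hterm]
    exact Submodule.sum_mem _ fun i _ => Ideal.mul_mem_left _ _ (Ideal.subset_span ⟨_, rfl⟩)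
  · have hsurj : Function.Surjective fun i : Fin (num m n 0) => (lab 0 i).2 := fun J => by
      refine ⟨Fintype.equivFin (Lab m n 0) (⟨fun _ => 0, by simp⟩, J), ?_⟩
      simp [lab]
    obtain ⟨c, hc⟩ := Submodule.mem_span_range_iff_exists_fun _ |>.1 hr
    choose g hg using hsurj
    obtain ⟨z, hz⟩ := exists_coord hu 0 fun i => ∑ J with g J = i, c J
    refine ⟨z, ?_⟩
    show scal x (stalkLin (aug (comps φ)) x z) = r
    rw [hterm, hz, ← hc]
    simp only [Finset.sum_mul, smul_eq_mul]
    refine Eq.trans ?_ (Finset.sum_fiberwise Finset.univ g _)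
    refine Finset.sum_congr rfl fun i _ => Finset.sum_congr rfl fun J hJ => ?_
    rw [← (Finset.mem_filter.1 hJ).2]
    have h' : (lab 0 (g J)).2 = J := hg J
    rw [h']
    rfl

end general

section projective

variable {r : ℕ} {k : Type u} [Field k] {m n : ℕ}

local notation "P" => CohB1.ProjSpace r k
local notation "O₁" => Twist.twistProjSpace r k (-1)

open CMReg (Ft RegAll)

theorem nonempty_Tp : ∀ a : ℕ, Nonempty (Tp O₁ a ≅ Twist.twistProjSpace r k (-(a : ℤ))) := by
  intro a
  induction a with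
  | zero =>
    obtain ⟨e⟩ := CMReg.nonempty_twist_zero (n := r) (k := k)
    exact ⟨e.symm ≪≫ eqToIso (congrArg _ (by simp))⟩
  | succ a ih =>
    obtain ⟨e⟩ := ih
    obtain ⟨g⟩ := CMReg.nonempty_twist_add (n := r) (k := k) (a := -1) (b := -(a : ℤ)) (c := -((a + 1 : ℕ) : ℤ))
      (by push_cast; ring)
    exact ⟨Ample.LineData.tensorModMapIso (Iso.refl _) e ≪≫ g⟩

theorem nonempty_Ob (s : ℕ) :
    Nonempty ((Ob O₁ m n s : (P).Modules) ≅ CMReg.sumTwist r k (num m n s) (-((m + s : ℕ) : ℤ))) :=
  ⟨biproduct.isoCoproduct _ ≪≫ Sigma.mapIso fun _ => (nonempty_Tp (r := r) (k := k) (m + s)).some⟩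

theorem isCoh_Ob (s : ℕ) : Coh.IsCoh (Ob O₁ m n s : (P).Modules) :=
  QCoh.isCoh_of_iso (nonempty_Ob (r := r) (k := k) s).some.symm (CMReg.isCoh_sumTwist _ _)

theorem regAll_Ob (s : ℕ) : RegAll (Ob O₁ m n s : (P).Modules) ((m : ℤ) + s) := by
  intro i hi
  have h := CMReg.propagate (CMReg.isCoh_sumTwist (n := r) (k := k) (num m n s) (-((m + s : ℕ) : ℤ)))
    _ (CMReg.regular_sumTwist (n := r) (k := k) (num m n s) ((m + s : ℕ) : ℤ)) i ((m : ℤ) + s - i) hi
    (by push_cast; omega)
  exact CMReg.subsingleton_of_iso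
    (Ample.LineData.tensorModMapIso (nonempty_Ob (r := r) (k := k) s).some.symm (Iso.refl _)) h

/-- One step down the complex, in a single cohomological degree. -/
theorem image_step (S : ShortComplex (P).Modules) (h₁ : Coh.IsCoh S.X₁) (h₂ : Coh.IsCoh S.X₂)
    (h₃ : Coh.IsCoh S.X₃) (hH : topologicalKrullDim (CohB1.support S.homology) ≤ 1) {d : ℤ}
    (hreg : RegAll S.X₂ d) {i : ℕ} (hi : 1 ≤ i)
    (hf : Subsingleton (Coh.HH P (Ft (Abelian.image S.f) (d + 1 - ((i + 1 : ℕ) : ℤ))) (i + 1))) :
    Subsingleton (Coh.HH P (Ft (Abelian.image S.g) (d - i)) i) := by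
  refine CMReg.sub_X₃ (CMReg.cycles_shortExact S) (hreg i hi) ?_
  refine CMReg.sub_X₂ (CMReg.boundary_shortExact S) ?_ ?_
  · rwa [show (d + 1 - ((i + 1 : ℕ) : ℤ)) = d - i by push_cast; ring] at hf
  · have hcoh := CMReg.isCoh_homology S h₁ h₂ h₃
    have hsub : CohB1.support (Ft S.homology (d - i)) ⊆ CohB1.support S.homology :=
      CMReg.support_tensorMod_subset (X := P) _ _ (CMReg.isInvertible_twist _)
    exact CMReg.subsingleton_HH_of_support_dim_le_one k (CMReg.isCoh_Ft hcoh _)
      (le_trans (Topology.IsInducing.topologicalKrullDim_le (f := Set.inclusion hsub)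
        (Topology.IsEmbedding.inclusion hsub).isInducing) hH) (i + 1) (by omega)

variable (φ : (∐ fun _ : Fin n => Twist.twistProjSpace r k (-1)) ⟶ FlatMod.freeMod (CohB1.ProjSpace r k) m)

theorem dd_comp_dd (s : ℕ) : dd (comps φ) (s + 1) ≫ dd (comps φ) s = 0 := by
  refine HomColim20.hom_ext_stalkLin fun y v => ?_
  obtain ⟨u, hu⟩ := C1.exists_gen (CMReg.isInvertible_twist (n := r) (k := k) (-1)) y
  rw [stalkLin_dd_dd_eq_zero hu (comps φ) s v, FormalFun.stalkLin_zero]

theorem isCoh_cokernel' : Coh.IsCoh (cokernel φ) :=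
  QCoh.isCoh_cokernel φ
    (CMReg.isCoh_sumTwist (n := r) (k := k) n (-1) :)
    (Euler.isCoh_of_isFinLocFree (X := P) (OX.isFinLocFree_freeMod P m))

/-- The ideal of maximal minors. -/
abbrev FI : (P).IdealSheafData := Fitt.sheafIdeal (cokernel φ) 0

theorem range_sval_FI (y : P) {u : (O₁ : (P).Modules).presheaf.stalk y} (hu : Ref1.Gen O₁ y u) :
    Set.range (fun z => scal y (stalkLin (aug (comps φ)) y z)) = Set.range (sval (FI φ) y) := by
  obtain ⟨U, hU, hy, -⟩ := exists_isAffineOpen_mem_and_subset (x := y) (U := ⊤) trivial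
  have := (isCoh_cokernel' φ).1
  rw [range_scal_aug φ hu, ← FittSheaf.map_germ_sheafIdeal (isCoh_cokernel' φ).2 0 ⟨U, hU⟩ hy,
    ← OmegaBC.range_sval (FI φ) y ⟨U, hU⟩ hy]
  rfl

theorem aug_comp_toSubscheme : aug (comps φ) ≫ ClSub.toSubscheme (FI φ) = 0 := by
  refine HomColim20.hom_ext_stalkLin fun y v => ?_
  obtain ⟨u, hu⟩ := C1.exists_gen (CMReg.isInvertible_twist (n := r) (k := k) (-1)) y
  obtain ⟨w, hw⟩ := (range_sval_FI φ y hu).le ⟨v, rfl⟩
  have hv : stalkLin (aug (comps φ)) y v = stalkLin (ClSub.idealModι (FI φ)) y w := by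
    rw [stalkLin_idealModι, hw]
    exact ((HomSh.unitStalk y).apply_symm_apply _).symm
  rw [QCoh.stalkLin_comp, hv, ← QCoh.stalkLin_comp,
    show ClSub.idealModι (FI φ) ≫ ClSub.toSubscheme (FI φ) = 0 from kernel.condition _,
    FormalFun.stalkLin_zero, FormalFun.stalkLin_zero]

/-- The augmentation into the ideal of maximal minors. -/
def augI : (Ob O₁ m n 0 : (P).Modules) ⟶ ClSub.idealMod (FI φ) := kernel.lift _ _ (aug_comp_toSubscheme φ)

theorem augI_ι : augI φ ≫ ClSub.idealModι (FI φ) = aug (comps φ) := kernel.lift_ι _ _ _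

theorem scal_idealModι (y : P) (w : (ClSub.idealMod (FI φ)).presheaf.stalk y) :
    scal y (stalkLin (ClSub.idealModι (FI φ)) y w) = sval (FI φ) y w := by
  rw [stalkLin_idealModι]
  exact (HomSh.unitStalk y).symm_apply_apply _

theorem epi_augI : Epi (augI φ) := by
  refine (OX.epi_iff _).2 fun y => (ModuleCat.epi_iff_surjective _).2 fun w => ?_
  obtain ⟨u, hu⟩ := C1.exists_gen (CMReg.isInvertible_twist (n := r) (k := k) (-1)) y
  obtain ⟨z, hz⟩ := (range_sval_FI φ y hu).ge ⟨w, rfl⟩
  refine ⟨z, OmegaBC.sval_injective (FI φ) y ?_⟩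
  change sval (FI φ) y (stalkLin (augI φ) y z) = sval (FI φ) y w
  rw [← hz, ← scal_idealModι, ← QCoh.stalkLin_comp, augI_ι]

theorem dd_comp_augI : dd (comps φ) 0 ≫ augI φ = 0 := by
  haveI : Mono (ClSub.idealModι (FI φ)) := inferInstanceAs (Mono (kernel.ι _))
  rw [← cancel_mono (ClSub.idealModι (FI φ)), Category.assoc, augI_ι, zero_comp]
  refine HomColim20.hom_ext_stalkLin fun y v => ?_
  obtain ⟨u, hu⟩ := C1.exists_gen (CMReg.isInvertible_twist (n := r) (k := k) (-1)) y
  rw [stalkLin_dd_aug_eq_zero hu (comps φ) v, FormalFun.stalkLin_zero]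

theorem exists_rightInverse_of_notMem {y : P} (hy : y ∉ (FI φ).support)
    {u : (O₁ : (P).Modules).presheaf.stalk y} (hu : Ref1.Gen O₁ y u) :
    ∃ t : Fin m → Fin n → (P).presheaf.stalk y,
      ∀ p q, ∑ v, mat (comps φ) u p v * t q v = if p = q then 1 else 0 := by
  obtain ⟨U, hU, hyU, -⟩ := exists_isAffineOpen_mem_and_subset (x := y) (U := ⊤) trivial
  have := (isCoh_cokernel' φ).1
  have hnle := (FittSheaf.notMem_support_iff_not_le (isCoh_cokernel' φ).2 0 ⟨U, hU⟩ hyU).1 hy
  obtain ⟨a, ha, ha'⟩ := SetLike.not_le_iff_exists.1 hnle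
  have hunit : IsUnit ((P).presheaf.germ U y hyU a) := by
    have := WeakAss.notMem_primeAt_iff.1 ha'
    exact (Scheme.mem_basicOpen _ _ _ hyU).1 this
  have hmem : (P).presheaf.germ U y hyU a ∈
      Fitt.ideal ((P).presheaf.stalk y) ((cokernel φ).presheaf.stalk y) 0 := by
    rw [← FittSheaf.map_germ_sheafIdeal (isCoh_cokernel' φ).2 0 ⟨U, hU⟩ hyU,
      FittSheaf.sheafIdeal_ideal (isCoh_cokernel' φ).2]
    exact Ideal.mem_map_of_mem _ ha
  rw [ideal_eq_span_det φ hu] at hmem
  obtain ⟨J, hJ⟩ : ∃ J : Fin m → Fin n, IsUnit (Matrix.of fun a b => mat (comps φ) u b (J a)).det := by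
    by_contra hne
    push_neg at hne
    refine (IsLocalRing.mem_maximalIdeal _).1 ((Ideal.span_le.2 ?_) hmem) hunit
    rintro _ ⟨J, rfl⟩
    exact (IsLocalRing.mem_maximalIdeal _).2 (hne J)
  exact exists_rightInverse _ J hJ

theorem notMem_support_homology (S : ShortComplex (P).Modules) {y : P}
    (h : ∀ v, stalkLin S.g y v = 0 → ∃ w, stalkLin S.f y w = v) : y ∉ CohB1.support S.homology := by
  have hex : (S.map (OX.stalk y)).Exact := by
    rw [ShortComplex.moduleCat_exact_iff]
    exact h
  have hz := ((ShortComplex.exact_iff_isZero_homology _).1 hex).of_iso (S.mapHomologyIso (OX.stalk y)).symm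
  simp only [CohB1.support, Set.mem_setOf_eq, not_not]
  exact ModuleCat.isZero_iff_subsingleton.1 hz

theorem dim_homology_le (hdim : topologicalKrullDim ((FI φ).support : Set (P)) ≤ 1)
    (S : ShortComplex (P).Modules) (h : ∀ y ∉ (FI φ).support, y ∉ CohB1.support S.homology) :
    topologicalKrullDim (CohB1.support S.homology) ≤ 1 := by
  have hsub : CohB1.support S.homology ⊆ ((FI φ).support : Set (P)) := fun y hy => by
    by_contra hne
    exact h y hne hy
  exact le_trans (Topology.IsInducing.topologicalKrullDim_le (f := Set.inclusion hsub)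
    (Topology.IsEmbedding.inclusion hsub).isInducing) hdim

/-- **The ideal of maximal minors of a matrix of linear forms with small zero set is regular.** -/
theorem isMRegular_FI (hdim : topologicalKrullDim ((FI φ).support : Set (P)) ≤ 1) :
    Curv2.IsMRegular k r (ClSub.idealMod (FI φ)) m := by
  have hO := fun y => C1.exists_gen (CMReg.isInvertible_twist (n := r) (k := k) (-1)) y
  let S : ℕ → ShortComplex (P).Modules := fun s => ShortComplex.mk (dd (comps φ) (s + 1)) (dd (comps φ) s)
    (dd_comp_dd φ s)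
  have key : ∀ (j s i : ℕ), 1 ≤ i → r < i + j →
      Subsingleton (Coh.HH P (Ft (Abelian.image (dd (comps φ) s)) ((m : ℤ) + s + 1 - i)) i) := by
    intro j
    induction j with
    | zero =>
      intro s i hi hlt
      have hc : Coh.IsCoh (Abelian.image (dd (comps φ) s)) :=
        QCoh.isCoh_kernel _ (isCoh_Ob s) (QCoh.isCoh_cokernel _ (isCoh_Ob (s + 1)) (isCoh_Ob s))
      have := (CMReg.isCoh_Ft hc ((m : ℤ) + s + 1 - i)).1
      exact CMReg.subsingleton_HH_of_lt _ (by omega)
    | succ j ih =>
      intro s i hi hlt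
      have hH := dim_homology_le φ hdim (S s) fun y hy => notMem_support_homology (S s) fun v hv => by
        obtain ⟨u, hu⟩ := hO y
        obtain ⟨t, ht⟩ := exists_rightInverse_of_notMem φ hy hu
        exact exists_dd_succ hu (comps φ) ht s v hv
      have hreg : RegAll (S s).X₂ ((m : ℤ) + s + 1) := by
        have := regAll_Ob (r := r) (k := k) (m := m) (n := n) (s + 1)
        push_cast at this
        rwa [← add_assoc] at this
      refine image_step (S s) (isCoh_Ob _) (isCoh_Ob _) (isCoh_Ob _) hH hreg hi ?_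
      have := ih (s + 1) (i + 1) (by omega) (by omega)
      push_cast at this ⊢
      rwa [← add_assoc] at this
  intro i hi _
  let S₀ : ShortComplex (P).Modules := ShortComplex.mk (dd (comps φ) 0) (augI φ) (dd_comp_augI φ)
  haveI := epi_augI φ
  have hI : Coh.IsCoh (ClSub.idealMod (FI φ)) := QCoh.isCoh_kernel (ClSub.toSubscheme (FI φ))
    (Euler.isCoh_of_isInvertible Euler.isInvertible_structure) (QCoh.pushUnit_isCoh _)
  have hH := dim_homology_le φ hdim S₀ fun y hy => notMem_support_homology S₀ fun v hv => by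
    obtain ⟨u, hu⟩ := hO y
    obtain ⟨t, ht⟩ := exists_rightInverse_of_notMem φ hy hu
    refine exists_dd_zero hu (comps φ) ht v ?_
    rw [← augI_ι, QCoh.stalkLin_comp, hv, map_zero]
  have hreg : RegAll S₀.X₂ (m : ℤ) := by
    have := regAll_Ob (r := r) (k := k) (m := m) (n := n) 0
    rwa [Nat.cast_zero, add_zero] at this
  have h := image_step S₀ (isCoh_Ob _) (isCoh_Ob _) hI hH hreg hi (by
    have := key r 0 (i + 1) (by omega) (by omega)
    rwa [Nat.cast_zero, add_zero] at this)
  haveI : Epi (Abelian.image.ι (augI φ)) := epi_of_epi_fac (Abelian.image.fac (augI φ))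
  haveI : IsIso (Abelian.image.ι (augI φ)) := isIso_of_mono_of_epi _
  exact CMReg.subsingleton_of_iso
    (Ample.LineData.tensorModMapIso (asIso (Abelian.image.ι (augI φ))) (Iso.refl _)) h

end projective

end GrothLib.LinEN5
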