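import Groth.Agent.Lib.ProjFormula.Map
import Groth.Agent.Lib.Ref1.Tensor
import Groth.Agent.Lib.HomSh.Criterion
import Groth.Agent.Lib.QCoh.GenericPoint
import Groth.Agent.Lib.OX.TensorInjective
import Groth.Agent.Lib.OmegaBC.IdealStalk
import Groth.Agent.Lib.FinCov.Frame

/-!
# Tensor products of germs (light imports)
-/

set_option autoImplicit false
set_option backward.isDefEq.respectTransparency false
set_option linter.all false

universe u

open CategoryTheory CategoryTheory.Limits AlgebraicGeometry TopologicalSpace Opposite TensorProduct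

noncomputable section

namespace GrothLib.LinEN5

open QCoh (stalkLin)

variable {X : Scheme.{u}}

theorem stalkLin_id (M : X.Modules) (x : X) (a : M.presheaf.stalk x) : stalkLin (𝟙 M) x a = a :=
  LinearMap.congr_fun (congrArg ModuleCat.Hom.hom ((OX.stalk x).map_id M)) (show (OX.stalk x).obj M from a)

theorem stalkLin_tmul_left {F F' : X.Modules} (f : F ⟶ F') (G : X.Modules) (x : X) (v : F.presheaf.stalk x)
    (w : G.presheaf.stalk x) :
    stalkLin (((DCoh.tensorBi (X := X)).map f).app G) x (Ref1.tmulStalk F G x v w) =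
      Ref1.tmulStalk F' G x (stalkLin f x v) w := by
  obtain ⟨U₁, h₁, m, rfl⟩ := TopCat.Presheaf.exists_germ_eq F.presheaf v
  obtain ⟨U₂, h₂, n, rfl⟩ := TopCat.Presheaf.exists_germ_eq G.presheaf w
  rw [← TopCat.Presheaf.germ_res_apply F.presheaf (homOfLE (inf_le_left : U₁ ⊓ U₂ ≤ U₁)) x ⟨h₁, h₂⟩ m,
    ← TopCat.Presheaf.germ_res_apply G.presheaf (homOfLE (inf_le_right : U₁ ⊓ U₂ ≤ U₂)) x ⟨h₁, h₂⟩ n,
    ← Ref1.germ_tmul]
  have hL := fun m' n' => (QCoh.stalkLin_germ (((DCoh.tensorBi (X := X)).map f).app G)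
    (show x ∈ U₁ ⊓ U₂ from ⟨h₁, h₂⟩) (SecTwist.tmul F G (U₁ ⊓ U₂) m' n'))
  refine (hL _ _).trans ?_
  rw [QCoh.stalkLin_germ, ← Ref1.germ_tmul]
  refine congrArg (fun s => (CohB1.tensorMod F' G).presheaf.germ (U₁ ⊓ U₂) x ⟨h₁, h₂⟩ s) ?_
  have h := OX.tmulSec_natural f (𝟙 G) (U₁ ⊓ U₂)
    (F.presheaf.map (homOfLE (inf_le_left : U₁ ⊓ U₂ ≤ U₁)).op m)
    (G.presheaf.map (homOfLE (inf_le_right : U₁ ⊓ U₂ ≤ U₂)).op n)
  rw [CategoryTheory.Functor.map_id, MonoidalCategory.tensorHom_id] at h
  exact h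

/-- The scalar of a germ of the structure module. -/
def scal (x : X) : (Coh.structureModule X).presheaf.stalk x ≃ₗ[X.presheaf.stalk x] X.presheaf.stalk x :=
  (HomSh.unitStalk x).symm

/-- The scalar multiplication `O ⊗ M ⟶ M`. -/
abbrev act (M : X.Modules) : CohB1.tensorMod (Coh.structureModule X) M ⟶ M := (OX.tensorUnitLeftIso M).hom

theorem stalkLin_act (M : X.Modules) (x : X) (a : (Coh.structureModule X).presheaf.stalk x)
    (m : M.presheaf.stalk x) :
    stalkLin (act M) x (Ref1.tmulStalk (Coh.structureModule X) M x a m) = scal x a • m := by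
  obtain ⟨U, hx, m, rfl⟩ := TopCat.Presheaf.exists_germ_eq M.presheaf m
  have h1 : stalkLin (act M) x (Ref1.tmulStalk (Coh.structureModule X) M x
      ((Coh.structureModule X).presheaf.germ U x hx (FinCov.one X U)) (M.presheaf.germ U x hx m)) =
      M.presheaf.germ U x hx m := by
    rw [← Ref1.germ_tmul]
    refine (QCoh.stalkLin_germ (act M) hx _).trans (congrArg (M.presheaf.germ U x hx) ?_)
    exact (ProjFormula.tensorUnitLeftIso_tmulSec M U (1 : Γ(X, U)) m).trans (one_smul _ _)
  have h2 : (Coh.structureModule X).presheaf.germ U x hx (FinCov.one X U) = HomSh.unitStalk x 1 := by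
    show _ = (1 : X.presheaf.stalk x) • ((Coh.structureModule X).presheaf.germ ⊤ x trivial (1 : Γ(X, ⊤)))
    rw [one_smul, ← TopCat.Presheaf.germ_res_apply (Coh.structureModule X).presheaf (homOfLE le_top) x hx
      (show Γ(Coh.structureModule X, ⊤) from (1 : Γ(X, ⊤)))]
    exact congrArg ((Coh.structureModule X).presheaf.germ U x hx) (map_one (X.presheaf.map _).hom).symm
  have h3 : a = scal x a • HomSh.unitStalk x 1 := by
    rw [← map_smul, smul_eq_mul, mul_one]
    exact ((HomSh.unitStalk x).apply_symm_apply a).symm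
  conv_lhs => rw [h3, map_smul, LinearMap.smul_apply, map_smul, ← h2, h1]

theorem stalkLin_idealModι (I : X.IdealSheafData) (x : X) (v : (OX.stalk x).obj (ClSub.idealMod I)) :
    stalkLin (ClSub.idealModι I) x v = HomSh.unitStalk x (OmegaBC.sval I x v) :=
  ((OmegaBC.ouni x).apply_symm_apply _).symm

end GrothLib.LinEN5
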