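import Groth.Agent.Lib.LinEN5.Alg
import Groth.Agent.Lib.LinEN5.Tens
import Groth.Agent.Lib.C1.Fibre
import Groth.Agent.Lib.Euler.GenericCompare
import Groth.Agent.Lib.FormalFun.Stalk
import Groth.Agent.Lib.HomColim20.FP

/-!
# The complex of twists attached to a matrix of maps `L ⟶ O`
-/

set_option autoImplicit false
set_option backward.isDefEq.respectTransparency false
set_option maxHeartbeats 600000
set_option linter.style.haveILetI false

universe u

open CategoryTheory CategoryTheory.Limits AlgebraicGeometry TopologicalSpace Opposite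

noncomputable section

namespace GrothLib.LinEN5

open QCoh (stalkLin)

instance hasFiniteBiproducts_modules (X : Scheme.{u}) : HasFiniteBiproducts X.Modules :=
  Abelian.hasFiniteBiproducts

variable {X : Scheme.{u}} (L : X.Modules)

/-- The tensor powers of a module. -/
def Tp : ℕ → X.Modules
  | 0 => Coh.structureModule X
  | a + 1 => CohB1.tensorMod L (Tp a)

/-- Multiplication by a map to the structure module. -/
def mul (ℓ : L ⟶ Coh.structureModule X) (a : ℕ) : Tp L (a + 1) ⟶ Tp L a :=
  ((DCoh.tensorBi (X := X)).map ℓ).app (Tp L a) ≫ act (Tp L a)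

/-- The product of several maps to the structure module. -/
def prodMul : ∀ {k : ℕ}, (Fin k → (L ⟶ Coh.structureModule X)) → (Tp L k ⟶ Coh.structureModule X)
  | 0, _ => 𝟙 _
  | k + 1, f => mul L (f 0) k ≫ prodMul fun i => f i.succ

variable {x : X}

/-- The powers of a germ. -/
def gen (u : L.presheaf.stalk x) : ∀ a, (Tp L a).presheaf.stalk x
  | 0 => HomSh.unitStalk x 1
  | a + 1 => Ref1.tmulStalk L (Tp L a) x u (gen u a)

variable {L} {u : L.presheaf.stalk x} (hu : Ref1.Gen L x u)

include hu in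
theorem gen_gen : ∀ a, Ref1.Gen (Tp L a) x (gen L u a) := by
  intro a
  induction a with
  | zero =>
    show Function.Bijective fun r : X.presheaf.stalk x => r • HomSh.unitStalk x 1
    rw [show (fun r : X.presheaf.stalk x => r • HomSh.unitStalk x 1) = HomSh.unitStalk x from funext fun r => by
      rw [← map_smul, smul_eq_mul, mul_one]]
    exact (HomSh.unitStalk x).bijective
  | succ a ih => exact Ref1.Gen.tmulStalk L (Tp L a) hu ih

/-- The coordinate of a germ of a power. -/
def γ (a : ℕ) : (Tp L a).presheaf.stalk x ≃ₗ[X.presheaf.stalk x] X.presheaf.stalk x :=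
  (LinearEquiv.ofBijective (LinearMap.toSpanSingleton (X.presheaf.stalk x) _ (gen L u a)) (gen_gen hu a)).symm

theorem γ_smul_gen (a : ℕ) (c : X.presheaf.stalk x) : γ hu a (c • gen L u a) = c :=
  (γ hu a).symm.injective (by rw [LinearEquiv.symm_apply_apply]; rfl)

theorem smul_gen_γ (a : ℕ) (z : (Tp L a).presheaf.stalk x) : γ hu a z • gen L u a = z :=
  (γ hu a).symm_apply_apply z

theorem γ_zero_eq_scal (z : (Tp L 0).presheaf.stalk x) : γ hu 0 z = scal x z := by
  conv_rhs => rw [← smul_gen_γ hu 0 z]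
  show _ = (HomSh.unitStalk x).symm (γ hu 0 z • HomSh.unitStalk x 1)
  rw [map_smul, LinearEquiv.symm_apply_apply, smul_eq_mul, mul_one]

/-- The coordinate of a map to the structure module. -/
def val (u : L.presheaf.stalk x) (ℓ : L ⟶ Coh.structureModule X) : X.presheaf.stalk x :=
  scal x (stalkLin ℓ x u)

theorem mul_gen (ℓ : L ⟶ Coh.structureModule X) (a : ℕ) :
    stalkLin (mul L ℓ a) x (gen L u (a + 1)) = val u ℓ • gen L u a := by
  have h1 := stalkLin_tmul_left ℓ (Tp L a) x u (gen L u a)
  have h2 := stalkLin_act (Tp L a) x (stalkLin ℓ x u) (gen L u a)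
  exact ((QCoh.stalkLin_comp _ _ x _).trans (congrArg _ h1)).trans h2

theorem γ_mul (ℓ : L ⟶ Coh.structureModule X) (a : ℕ) (z : (Tp L (a + 1)).presheaf.stalk x) :
    γ hu a (stalkLin (mul L ℓ a) x z) = val u ℓ * γ hu (a + 1) z := by
  conv_lhs => rw [← smul_gen_γ hu (a + 1) z]
  rw [map_smul, mul_gen, map_smul, γ_smul_gen, smul_eq_mul, mul_comm]

theorem scal_prodMul : ∀ {k : ℕ} (f : Fin k → (L ⟶ Coh.structureModule X)) (z : (Tp L k).presheaf.stalk x),
    scal x (stalkLin (prodMul L f) x z) = (∏ i, val u (f i)) * γ hu k z := by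
  intro k
  induction k with
  | zero =>
    intro f z
    rw [prodMul, Fin.prod_univ_zero, one_mul, γ_zero_eq_scal]
    exact congrArg _ (stalkLin_id _ _ _)
  | succ k ih =>
    intro f z
    rw [prodMul, QCoh.stalkLin_comp, ih, γ_mul, Fin.prod_univ_succ]
    ring

theorem stalkLin_zsmul {M N : X.Modules} (c : ℤ) (f : M ⟶ N) (y : X) (e : M.presheaf.stalk y) :
    stalkLin (c • f) y e = c • stalkLin f y e := by
  induction c using Int.induction_on with
  | zero => rw [zero_smul, zero_smul]; exact FormalFun.stalkLin_zero _ _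
  | succ i hi => rw [add_smul, add_smul, one_smul, one_smul, QCoh.stalkLin_add, hi]
  | pred i hi => rw [sub_smul, sub_smul, one_smul, one_smul, sub_eq_add_neg, QCoh.stalkLin_add, hi,
      Euler.stalkLin_neg, sub_eq_add_neg]

/-! ### The complex -/

variable (L) {m n : ℕ}

/-- The labels in degree `s`. -/
abbrev Lab (m n s : ℕ) := {α : Fin m → Fin (s + 1) // ∑ p, (α p : ℕ) = s} × (Fin (m + s) → Fin n)

/-- The number of labels. -/
abbrev num (m n s : ℕ) : ℕ := Fintype.card (Lab m n s)

/-- The label with a given number. -/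
def lab (s : ℕ) (i : Fin (num m n s)) : Lab m n s := (Fintype.equivFin (Lab m n s)).symm i

/-- The multi-degree of a label. -/
def deg (s : ℕ) (i : Fin (num m n s)) : Fin m → ℕ := fun p => ((lab s i).1.1 p : ℕ)

/-- The word of a label. -/
def word (s : ℕ) (i : Fin (num m n s)) : List (Fin n) := List.ofFn (lab s i).2

theorem sum_deg (s : ℕ) (i : Fin (num m n s)) : ∑ p, deg s i p = s := (lab s i).1.2

theorem length_word (s : ℕ) (i : Fin (num m n s)) : (word s i).length = m + s := List.length_ofFn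

theorem label_injective (s : ℕ) {i j : Fin (num m n s)} (h : deg s i = deg s j) (h' : word s i = word s j) :
    i = j := by
  refine (Fintype.equivFin (Lab m n s)).symm.injective (Prod.ext (Subtype.ext (funext fun p => Fin.ext ?_)) ?_)
  · exact congrFun h p
  · exact List.ofFn_injective h'

theorem exists_label {s : ℕ} {α : Fin m → ℕ} {K : List (Fin n)} (hα : ∑ p, α p = s) (hK : K.length = m + s) :
    ∃ i, deg s i = α ∧ word s i = K := by
  have hle : ∀ p, α p < s + 1 := fun p =>
    Nat.lt_succ_of_le (hα ▸ Finset.single_le_sum (f := α) (fun q _ => Nat.zero_le _) (Finset.mem_univ p))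
  refine ⟨Fintype.equivFin _ (⟨fun p => ⟨α p, hle p⟩, hα⟩, fun l => K.get (Fin.cast hK.symm l)), ?_, ?_⟩
  · funext p; simp [deg, lab]
  · simp only [word, lab, Equiv.symm_apply_apply]
    exact List.ext_getElem (by simp [hK]) fun l h1 h2 => by simp

/-- The terms. -/
abbrev Ob (m n s : ℕ) : X.Modules := ⨁ fun _ : Fin (num m n s) => Tp L (m + s)

variable {L} (ℓ : Fin m → Fin n → (L ⟶ Coh.structureModule X))

/-- A matrix entry of the differential. -/
def entry (s : ℕ) (i : Fin (num m n (s + 1))) (i' : Fin (num m n s)) : Tp L (m + (s + 1)) ⟶ Tp L (m + s) :=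
  ∑ p : Fin m, ∑ l : Fin (m + s + 1),
    if deg s i' + e p = deg (s + 1) i ∧ List.ofFn ((lab (s + 1) i).2 ∘ l.succAbove) = word s i' then
      ((-1 : ℤ) ^ (l : ℕ)) • mul L (ℓ p ((lab (s + 1) i).2 l)) (m + s) else 0

/-- The differential. -/
def dd (s : ℕ) : Ob L m n (s + 1) ⟶ Ob L m n s := biproduct.matrix fun i i' => entry ℓ s i i'

/-- The augmentation. -/
def aug : Ob L m n 0 ⟶ Coh.structureModule X :=
  biproduct.desc fun i => ∑ σ : Equiv.Perm (Fin m),
    ((Equiv.Perm.sign σ : ℤˣ) : ℤ) • prodMul L fun a : Fin m => ℓ (σ a) ((lab 0 i).2 a)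

/-- The matrix at a point. -/
def mat (u : L.presheaf.stalk x) (p : Fin m) (v : Fin n) : X.presheaf.stalk x := val u (ℓ p v)

/-- The coordinates of a germ. -/
def coord (s : ℕ) (z : (Ob L m n s).presheaf.stalk x) (i : Fin (num m n s)) : X.presheaf.stalk x :=
  γ hu (m + s) (stalkLin (biproduct.π _ i) x z)

/-- The graded function of a label. -/
def dl (R : Type*) [CommRing R] (s : ℕ) (i : Fin (num m n s)) : Cmp R m n :=
  Pi.single (deg s i) (delta (word s i))

/-- The graded function of a germ. -/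
def cmp (s : ℕ) (z : (Ob L m n s).presheaf.stalk x) : Cmp (X.presheaf.stalk x) m n :=
  ∑ i, coord hu s z i • dl _ s i

theorem cmp_label (s : ℕ) (z : (Ob L m n s).presheaf.stalk x) (i : Fin (num m n s)) :
    cmp hu s z (deg s i) (word s i) = coord hu s z i := by
  rw [cmp, Finset.sum_apply, Finset.sum_apply, Finset.sum_eq_single i]
  · simp [dl, delta]
  · intro j _ hj
    rw [Pi.smul_apply, Pi.smul_apply, smul_eq_mul]
    by_cases h : deg s j = deg s i
    · have : word s j ≠ word s i := fun h' => hj (label_injective s h h')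
      simp [dl, h, delta, Ne.symm this]
    · simp [dl, Ne.symm h]
  · simp

theorem cmp_eq_zero (s : ℕ) (z : (Ob L m n s).presheaf.stalk x) (α : Fin m → ℕ) (K : List (Fin n))
    (h : ¬(∑ p, α p = s ∧ K.length = m + s)) : cmp hu s z α K = 0 := by
  rw [cmp, Finset.sum_apply, Finset.sum_apply]
  refine Finset.sum_eq_zero fun i _ => ?_
  rw [Pi.smul_apply, Pi.smul_apply, smul_eq_mul]
  by_cases h1 : α = deg s i
  · have : K ≠ word s i := fun h2 => h ⟨h1 ▸ sum_deg s i, h2 ▸ length_word s i⟩
    simp [dl, h1, delta, this]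
  · simp [dl, h1]

theorem coord_injective (s : ℕ) (z z' : (Ob L m n s).presheaf.stalk x) (h : coord hu s z = coord hu s z') :
    z = z' := by
  have key : ∀ w : (Ob L m n s).presheaf.stalk x,
      w = ∑ i, stalkLin (biproduct.ι (fun _ : Fin (num m n s) => Tp L (m + s)) i) x
        (stalkLin (biproduct.π _ i) x w) := fun w => by
    simp only [← QCoh.stalkLin_comp]
    rw [← FormalFun.stalkLin_sum, biproduct.total]
    exact (stalkLin_id _ _ _).symm
  rw [key z, key z']
  exact Finset.sum_congr rfl fun i _ => congrArg _ ((γ hu (m + s)).injective (congrFun h i))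

theorem exists_coord (s : ℕ) (c : Fin (num m n s) → X.presheaf.stalk x) :
    ∃ z : (Ob L m n s).presheaf.stalk x, coord hu s z = c := by
  refine ⟨∑ i, stalkLin (biproduct.ι (fun _ : Fin (num m n s) => Tp L (m + s)) i) x
    (c i • gen L u (m + s)), funext fun j => ?_⟩
  rw [coord, map_sum, map_sum, Finset.sum_eq_single j]
  · rw [← QCoh.stalkLin_comp, biproduct.ι_π_self, stalkLin_id, γ_smul_gen]
  · intro i _ hij
    rw [← QCoh.stalkLin_comp, biproduct.ι_π_ne _ hij, FormalFun.stalkLin_zero, map_zero]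
  · simp

theorem conL_delta_word (r : Fin n → X.presheaf.stalk x) (s : ℕ) (i : Fin (num m n (s + 1))) (K : List (Fin n)) :
    conL r (delta (word (s + 1) i)) K = ∑ l : Fin (m + s + 1),
      (-1) ^ (l : ℕ) * r ((lab (s + 1) i).2 l) *
        (if List.ofFn ((lab (s + 1) i).2 ∘ l.succAbove) = K then 1 else 0) :=
  conL_delta (N := m + s) r (lab (s + 1) i).2 K

theorem Dl_dl (r : Fin m → Fin n → X.presheaf.stalk x) (s : ℕ) (i : Fin (num m n (s + 1))) (α : Fin m → ℕ)
    (K : List (Fin n)) :
    Dl r (dl _ (s + 1) i) α K = ∑ p : Fin m, ∑ l : Fin (m + s + 1),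
      if α + e p = deg (s + 1) i ∧ List.ofFn ((lab (s + 1) i).2 ∘ l.succAbove) = K then
        (-1) ^ (l : ℕ) * r p ((lab (s + 1) i).2 l) else 0 := by
  rw [Dl_apply, Finset.sum_apply]
  refine Finset.sum_congr rfl fun p _ => ?_
  by_cases h : α + e p = deg (s + 1) i
  · rw [dl, h, Pi.single_eq_same, conL_delta_word]
    exact Finset.sum_congr rfl fun l _ => by split_ifs <;> simp_all
  · rw [dl, Pi.single_eq_of_ne h, map_zero, Pi.zero_apply]
    exact (Finset.sum_eq_zero fun l _ => if_neg fun h' => h h'.1).symm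

theorem coord_dd (s : ℕ) (z : (Ob L m n (s + 1)).presheaf.stalk x) :
    cmp hu s (stalkLin (dd ℓ s) x z) = Dl (mat ℓ u) (cmp hu (s + 1) z) := by
  funext α K
  have hD : Dl (mat ℓ u) (cmp hu (s + 1) z) α K =
      ∑ i, coord hu (s + 1) z i * Dl (mat ℓ u) (dl _ (s + 1) i) α K := by
    rw [cmp, map_sum, Finset.sum_apply, Finset.sum_apply]
    exact Finset.sum_congr rfl fun i _ => by rw [map_smul, Pi.smul_apply, Pi.smul_apply, smul_eq_mul]
  rw [hD]
  by_cases h : ∑ p, α p = s ∧ K.length = m + s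
  · obtain ⟨i', rfl, rfl⟩ := exists_label h.1 h.2
    rw [cmp_label, coord, ← QCoh.stalkLin_comp, dd, biproduct.matrix_π, biproduct.desc_eq,
      FormalFun.stalkLin_sum, map_sum]
    refine Finset.sum_congr rfl fun i _ => ?_
    rw [QCoh.stalkLin_comp, Dl_dl, entry, FormalFun.stalkLin_sum, map_sum, Finset.mul_sum]
    refine Finset.sum_congr rfl fun p _ => ?_
    rw [FormalFun.stalkLin_sum, map_sum, Finset.mul_sum]
    refine Finset.sum_congr rfl fun l _ => ?_
    split_ifs with hc
    · rw [stalkLin_zsmul, map_zsmul, zsmul_eq_mul, coord, mat]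
      erw [γ_mul]
      push_cast
      ring_nf
      rfl
    · rw [FormalFun.stalkLin_zero, map_zero, mul_zero]
  · rw [cmp_eq_zero hu s _ α K h]
    refine (Finset.sum_eq_zero fun i _ => ?_).symm
    rw [Dl_dl, Finset.mul_sum]
    refine Finset.sum_eq_zero fun p _ => ?_
    rw [Finset.mul_sum]
    refine Finset.sum_eq_zero fun l _ => ?_
    rw [if_neg, mul_zero]
    rintro ⟨hα, hK⟩
    refine h ⟨?_, by rw [← hK, List.length_ofFn]⟩
    have := sum_deg (s + 1) i
    rw [← hα] at this
    simp [Finset.sum_add_distrib, e] at this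
    omega

theorem scal_aug (z : (Ob L m n 0).presheaf.stalk x) :
    scal x (stalkLin (aug ℓ) x z) = comp (mat ℓ u) (List.finRange m) (cmp hu 0 z 0) [] := by
  rw [cmp, Finset.sum_apply, map_sum, Finset.sum_apply, aug, biproduct.desc_eq, FormalFun.stalkLin_sum, map_sum]
  refine Finset.sum_congr rfl fun i _ => ?_
  rw [QCoh.stalkLin_comp, FormalFun.stalkLin_sum, map_sum, Pi.smul_apply, map_smul, Pi.smul_apply, smul_eq_mul]
  have hdeg : deg 0 i = (0 : Fin m → ℕ) := by
    funext p
    have := (lab 0 i).1.1 p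
    simp [deg]
  rw [dl, hdeg, Pi.single_eq_same, ← List.ofFn_id]
  erw [comp_delta (mat ℓ u) id (lab 0 i).2]
  rw [← Matrix.det_transpose, Matrix.det_apply', Finset.mul_sum]
  refine Finset.sum_congr rfl fun σ _ => ?_
  rw [stalkLin_zsmul, map_zsmul, zsmul_eq_mul]
  erw [scal_prodMul hu]
  simp only [Matrix.transpose_apply, Matrix.of_apply, id_eq, mat, coord]
  ring_nf
  rfl

include hu in
theorem stalkLin_dd_dd_eq_zero (s : ℕ) (z : (Ob L m n (s + 2)).presheaf.stalk x) :
    stalkLin (dd ℓ (s + 1) ≫ dd ℓ s) x z = 0 := by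
  refine coord_injective hu s _ _ (funext fun i => ?_)
  rw [← cmp_label, ← cmp_label, QCoh.stalkLin_comp, coord_dd, coord_dd, Dl_Dl]
  simp [cmp, coord]

include hu in
theorem stalkLin_dd_aug_eq_zero (z : (Ob L m n 1).presheaf.stalk x) : stalkLin (dd ℓ 0 ≫ aug ℓ) x z = 0 := by
  refine (scal x).injective ?_
  rw [map_zero, QCoh.stalkLin_comp, scal_aug hu ℓ, coord_dd, comp_Dl_eq_zero]
  rfl

variable {t : Fin m → Fin n → X.presheaf.stalk x}
  (ht : ∀ p q, ∑ v, mat ℓ u p v * t q v = if p = q then 1 else 0)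

include ht in
theorem exists_dd_of_cmp (s : ℕ) (z : (Ob L m n s).presheaf.stalk x) (h1 : Dl (mat ℓ u) (cmp hu s z) = 0)
    (h0 : comp (mat ℓ u) (List.finRange m) (cmp hu s z 0) = 0) :
    ∃ y, stalkLin (dd ℓ s) x y = z := by
  obtain ⟨g, hg⟩ := exists_preimage ht h1 h0
  obtain ⟨y, hy⟩ := exists_coord hu (s + 1) fun i => g (deg (s + 1) i) (word (s + 1) i)
  refine ⟨y, coord_injective hu s _ _ (funext fun i' => ?_)⟩
  rw [← cmp_label, ← cmp_label, coord_dd, ← hg, Dl_apply, Dl_apply, Finset.sum_apply, Finset.sum_apply]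
  refine Finset.sum_congr rfl fun p _ => conL_congr _ _ _ _ fun K hK => ?_
  have hsum : ∑ q, (deg s i' + e p : Fin m → ℕ) q = s + 1 := by
    simp [Finset.sum_add_distrib, e, sum_deg]
  rw [length_word] at hK
  obtain ⟨i, hi, rfl⟩ := exists_label (s := s + 1) hsum hK
  rw [← hi, cmp_label, hy]

include hu ht in
/-- Exactness in positive degrees. -/
theorem exists_dd_succ (s : ℕ) (z : (Ob L m n (s + 1)).presheaf.stalk x) (hz : stalkLin (dd ℓ s) x z = 0) :
    ∃ y, stalkLin (dd ℓ (s + 1)) x y = z := by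
  refine exists_dd_of_cmp hu ℓ ht (s + 1) z ?_ ?_
  · rw [← coord_dd, hz]
    simp [cmp, coord]
  · rw [show cmp hu (s + 1) z 0 = 0 from funext fun K => cmp_eq_zero hu (s + 1) z 0 K (by simp), map_zero]

include hu ht in
/-- Exactness at the augmentation. -/
theorem exists_dd_zero (z : (Ob L m n 0).presheaf.stalk x) (hz : stalkLin (aug ℓ) x z = 0) :
    ∃ y, stalkLin (dd ℓ 0) x y = z := by
  refine exists_dd_of_cmp hu ℓ ht 0 z ?_ ?_
  · funext α
    rw [Dl_apply, Pi.zero_apply]
    refine Finset.sum_eq_zero fun p _ => ?_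
    rw [show cmp hu 0 z (α + e p) = 0 from funext fun K => cmp_eq_zero hu 0 z _ K fun h => by
      have := h.1; simp [Finset.sum_add_distrib, e] at this, map_zero]
  · funext J
    rcases J with _ | ⟨a, J⟩
    · rw [← scal_aug hu ℓ, hz, map_zero]
      rfl
    · rw [comp_congr _ _ (a :: J) _ 0 fun K hK => cmp_eq_zero hu 0 z 0 K fun h => by
        have := h.2; rw [hK] at this; simp at this, map_zero]

/-- A point where a maximal minor is a unit has a right inverse of the matrix. -/
theorem exists_rightInverse {R : Type*} [CommRing R] (r : Fin m → Fin n → R) (J : Fin m → Fin n)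
    (hJ : IsUnit (Matrix.of fun a b : Fin m => r b (J a)).det) :
    ∃ t : Fin m → Fin n → R, ∀ p q, ∑ v, r p v * t q v = if p = q then 1 else 0 := by
  classical
  let M : Matrix (Fin m) (Fin m) R := Matrix.of fun a b => r b (J a)
  refine ⟨fun q v => ∑ a, if J a = v then M⁻¹ q a else 0, fun p q => ?_⟩
  simp only [Finset.mul_sum, mul_ite, mul_zero]
  rw [Finset.sum_comm]
  have h : (M⁻¹ * M) q p = (1 : Matrix (Fin m) (Fin m) R) q p := by rw [Matrix.nonsing_inv_mul _ hJ]
  rw [Matrix.mul_apply, Matrix.one_apply] at h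
  simp only [Finset.sum_ite_eq, Finset.mem_univ, if_true]
  rw [show (if p = q then (1 : R) else 0) = if q = p then 1 else 0 by simp [eq_comm], ← h]
  exact Finset.sum_congr rfl fun a _ => mul_comm _ _

end GrothLib.LinEN5
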